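import Groth.Agent.Etdl.H440.Geo

/-!
# Route C geometry, (M): moving the point of a chart

`StmtRK → StmtM`: two charts at points of an irreducible open `W` of `X`, with coordinates obtained
by translation from étale coordinates on `W`, belong to one family, parametrised by `W`.
-/

set_option autoImplicit false
universe u
open CategoryTheory CategoryTheory.Limits AlgebraicGeometry Opposite

namespace Groth.Agent.Etdl.H297.MovePt

open Groth.Agent.Etdl.H440 Groth.Agent.Etdl.H440.Geo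

noncomputable section

/-- Base change of the map to the affine space given by functions. -/
theorem isPullback_homOfVector {n : Type u} {S T W V : Scheme.{u}} {f : V ⟶ W} {v : V ⟶ T}
    {w : W ⟶ S} {τ : T ⟶ S} (h : IsPullback f v w τ) (c : n → Γ(W, ⊤)) :
    IsPullback f (AffineSpace.homOfVector v fun l => f.appTop (c l))
      (AffineSpace.homOfVector w c) (AffineSpace.map n τ) := by
  have h1 : IsPullback (AffineSpace.map n τ) (𝔸(n; T) ↘ T) (𝔸(n; S) ↘ S) τ :=
    AffineSpace.isPullback_map τ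
  refine IsPullback.of_bot ?_ ?_ h1
  · rw [AffineSpace.homOfVector_over, AffineSpace.homOfVector_over]
    exact h
  · apply AffineSpace.hom_ext
    · rw [Category.assoc, Category.assoc, AffineSpace.homOfVector_over, AffineSpace.map_over,
        AffineSpace.homOfVector_over_assoc]
      exact h.w
    · intro l
      rw [Scheme.Hom.comp_appTop, Scheme.Hom.comp_appTop, CommRingCat.comp_apply,
        CommRingCat.comp_apply, AffineSpace.homOfVector_appTop_coord, AffineSpace.map_appTop_coord,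
        AffineSpace.homOfVector_appTop_coord]

/-- Étale coordinates are preserved by base change. -/
theorem etale_homOfVector {n : Type u} {S T W V : Scheme.{u}} {f : V ⟶ W} {v : V ⟶ T}
    {w : W ⟶ S} {τ : T ⟶ S} (h : IsPullback f v w τ) (c : n → Γ(W, ⊤))
    (hc : Etale (AffineSpace.homOfVector w c)) :
    Etale (AffineSpace.homOfVector v fun l => f.appTop (c l)) :=
  MorphismProperty.of_isPullback (P := @Etale) (isPullback_homOfVector h c) hc

section

variable {k : Type u} [Field k] {X Y : Scheme.{u}} {p : Y ⟶ Spec (CommRingCat.of k)} {j : X ⟶ Y}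
  {d : ℕ} {W : Scheme.{u}} {i : W ⟶ X} {c : Ix.{u} d → Γ(W, ⊤)}

/-- The data of one chart at a point mapping to a family over `W`. -/
theorem exists_hom (C : SChart p j d (i ≫ j ≫ p))
    (C₁ : SChart p j d (𝟙 (Spec (CommRingCat.of k))))
    (g₁ : C₁.W ⟶ W) (hg₁ : g₁ ≫ i = C₁.i)
    (hc₁ : ∀ l, C₁.c l = g₁.appTop (c l - (i ≫ j ≫ p).appTop ((C₁.σ ≫ g₁).appTop (c l))))
    (Z : Scheme.{u}) (q r : Z ⟶ W) (hq : IsPullback q r (i ≫ j ≫ p) (i ≫ j ≫ p))
    (δ : W ⟶ Z) (hδ₁ : δ ≫ q = 𝟙 W) (hδ₂ : δ ≫ r = 𝟙 W)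
    (g : C.W ⟶ Z) [IsOpenImmersion g] (hgi : g ≫ q ≫ i = C.i) (hgv : g ≫ r = C.v)
    (hgσ : C.σ ≫ g = δ)
    (hgc : ∀ l, C.c l = g.appTop (q.appTop (c l) - r.appTop (δ.appTop (q.appTop (c l)))))
    (hmax : ∀ z : Z, ((∀ l, z ∉ Z.basicOpen (q.appTop (c l) - r.appTop (δ.appTop (q.appTop (c l))))) →
        z ∈ Set.range δ) →
      (∀ z' ∈ Set.range δ,
        ((q ≫ i ≫ j) z = (q ≫ i ≫ j) z' ∧ r z = r z') → z ∈ Set.range δ) → z ∈ Set.range g) :
    Nonempty (C₁.Hom C (𝟙 X) (C₁.σ ≫ g₁)) := by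
  set t := C₁.σ ≫ g₁ with htd
  have hv₁ : C₁.v = C₁.i ≫ j ≫ p := by rw [← C₁.hv, Category.comp_id]
  have hgτ : g₁ ≫ i ≫ j ≫ p = C₁.v := by rw [← Category.assoc, hg₁, hv₁]
  have ht : t ≫ i ≫ j ≫ p = 𝟙 _ := by rw [htd, Category.assoc, hgτ, C₁.σv]
  have hG : g₁ ≫ (i ≫ j ≫ p) = (C₁.v ≫ t) ≫ (i ≫ j ≫ p) := by
    rw [Category.assoc, ht, hgτ, Category.comp_id]
  let G : C₁.W ⟶ Z := hq.lift g₁ (C₁.v ≫ t) hG
  have hGq : G ≫ q = g₁ := hq.lift_fst _ _ _
  have hGr : G ≫ r = C₁.v ≫ t := hq.lift_snd _ _ _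
  have key1 : C₁.σ ≫ G = t ≫ δ := by
    apply hq.hom_ext
    · rw [Category.assoc, Category.assoc, hGq, hδ₁, Category.comp_id]
    · rw [Category.assoc, Category.assoc, hGr, hδ₂, Category.comp_id, ← Category.assoc, C₁.σv,
        Category.id_comp]
  have key2 : ∀ l, G.appTop (q.appTop (c l) - r.appTop (δ.appTop (q.appTop (c l)))) = C₁.c l := by
    intro l
    have e1 : G.appTop (q.appTop (c l)) = g₁.appTop (c l) := by
      rw [← CommRingCat.comp_apply, ← Scheme.Hom.comp_appTop, hGq]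
    have e2 : G.appTop (r.appTop (δ.appTop (q.appTop (c l)))) = (C₁.v ≫ t).appTop (c l) := by
      have e3 : G ≫ r ≫ δ ≫ q = C₁.v ≫ t := by
        rw [hδ₁, Category.comp_id, hGr]
      rw [← CommRingCat.comp_apply, ← CommRingCat.comp_apply, ← CommRingCat.comp_apply,
        ← Scheme.Hom.comp_appTop, ← Scheme.Hom.comp_appTop, ← Scheme.Hom.comp_appTop,
        Category.assoc, Category.assoc, e3]
    have e4 : g₁.appTop ((i ≫ j ≫ p).appTop (t.appTop (c l))) = (C₁.v ≫ t).appTop (c l) := by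
      have e5 : g₁ ≫ (i ≫ j ≫ p) ≫ t = C₁.v ≫ t := by rw [← Category.assoc, hgτ]
      rw [← CommRingCat.comp_apply, ← CommRingCat.comp_apply,
        ← Scheme.Hom.comp_appTop, ← Scheme.Hom.comp_appTop, Category.assoc, e5]
    rw [map_sub, e1, e2, hc₁ l, map_sub, e4]
  have key3 : Set.range G ⊆ Set.range g := by
    rintro _ ⟨z, rfl⟩
    refine hmax (G z) ?_ ?_
    · intro h
      obtain ⟨s, hs⟩ := C₁.uniq z (fun l hl => h l (by
        rw [← key2 l, ← Scheme.preimage_basicOpen_top] at hl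
        exact hl))
      refine ⟨t s, ?_⟩
      rw [← hs, ← Scheme.Hom.comp_apply, ← Scheme.Hom.comp_apply, key1]
    · rintro _ ⟨w, rfl⟩ ⟨h1, h2⟩
      rw [← Scheme.Hom.comp_apply, ← Scheme.Hom.comp_apply, hGr, hδ₂] at h2
      have hw : w = t (C₁.v z) := by
        rw [← Scheme.Hom.comp_apply]; exact h2.symm
      rw [← Scheme.Hom.comp_apply, ← Scheme.Hom.comp_apply, hw, ← Scheme.Hom.comp_apply,
        ← Scheme.Hom.comp_apply] at h1
      have e1 : G ≫ q ≫ i ≫ j = C₁.i ≫ j := by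
        rw [← Category.assoc, hGq, ← Category.assoc, hg₁]
      have e2 : C₁.v ≫ t ≫ δ ≫ q ≫ i ≫ j = (C₁.v ≫ C₁.σ) ≫ C₁.i ≫ j := by
        rw [← Category.assoc δ, hδ₁, Category.id_comp, htd]
        simp only [Category.assoc]
        rw [← Category.assoc g₁, hg₁]
      have h3 : (C₁.i ≫ j) z = (C₁.i ≫ j) (C₁.σ (C₁.v z)) := by
        rw [e1, e2] at h1
        rw [h1, Scheme.Hom.comp_apply (C₁.v ≫ C₁.σ), Scheme.Hom.comp_apply C₁.v]
      have h4 : z = C₁.σ (C₁.v z) := by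
        refine C₁.uniqY z _ ⟨_, rfl⟩ ?_
        have hinj : Function.Injective (pullback.fst p (𝟙 (Spec (CommRingCat.of k)))) :=
          (Scheme.Hom.isOpenEmbedding _).injective
        apply hinj
        rw [← Scheme.Hom.comp_apply, ← Scheme.Hom.comp_apply, pullback.lift_fst]
        exact h3
      refine ⟨t (C₁.v z), ?_⟩
      rw [← Scheme.Hom.comp_apply, ← key1, Scheme.Hom.comp_apply, ← h4]
  let h : C₁.W ⟶ C.W := IsOpenImmersion.lift g G key3
  have hh : h ≫ g = G := IsOpenImmersion.lift_fac g G key3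
  refine ⟨⟨h, ?_, ?_, ?_, ?_⟩⟩
  · rw [← hgi, ← Category.assoc, hh, ← Category.assoc, hGq, hg₁, Category.comp_id]
  · rw [← hgv, ← Category.assoc, hh, hGr]
  · intro l
    rw [hgc l, ← CommRingCat.comp_apply, ← Scheme.Hom.comp_appTop, hh, key2]
  · rw [← cancel_mono g, Category.assoc, Category.assoc, hh, hgσ, key1]

end

/-- **(M)** Moving the point. -/
theorem stmtM (h : Geo.StmtRK.{u}) : Geo.StmtM.{u} := by
  intro k _ _ X Y p _ _ j _ d W _ i _ _ c hc C₁ C₂ g₁ hg₁ hc₁ g₂ hg₂ hc₂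
  set τ := i ≫ j ≫ p with hτ
  have hsq : IsPullback (pullback.fst τ τ) (pullback.snd τ τ) τ τ := .of_hasPullback _ _
  have hv : pullback.snd τ τ ≫ τ = (pullback.fst τ τ ≫ i) ≫ j ≫ p := by
    rw [Category.assoc, ← hτ]
    exact hsq.w.symm
  have hopen : IsOpenImmersion
      (pullback.lift (f := j ≫ p) (g := τ) (pullback.fst τ τ ≫ i) (pullback.snd τ τ) hv.symm) := by
    have h1 : IsPullback (pullback.lift (f := j ≫ p) (g := τ) (pullback.fst τ τ ≫ i)
        (pullback.snd τ τ) hv.symm) (pullback.fst τ τ) (pullback.fst (j ≫ p) τ) i := by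
      have h2 : IsPullback (pullback.snd (j ≫ p) τ) (pullback.fst (j ≫ p) τ) τ (j ≫ p) :=
        (IsPullback.of_hasPullback _ _).flip
      refine IsPullback.of_right ?_ ?_ h2
      · rw [pullback.lift_snd]
        exact hsq.flip
      · rw [pullback.lift_fst]
    exact MorphismProperty.of_isPullback (P := @IsOpenImmersion) h1.flip inferInstance
  let δ : W ⟶ pullback τ τ := pullback.lift (𝟙 W) (𝟙 W) rfl
  have hδ₁ : δ ≫ pullback.fst τ τ = 𝟙 W := pullback.lift_fst _ _ _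
  have hδ₂ : δ ≫ pullback.snd τ τ = 𝟙 W := pullback.lift_snd _ _ _
  obtain ⟨C, hC, g, hg, hgi, hgv, hgσ, hgc, hmax⟩ := h p j d τ (pullback τ τ)
    (pullback.fst τ τ ≫ i) (pullback.snd τ τ) hv hopen
    (fun l => (pullback.fst τ τ).appTop (c l)) (etale_homOfVector hsq c hc) δ hδ₂
  have hmax' : ∀ z : ↥(pullback τ τ), ((∀ l, z ∉ (pullback τ τ).basicOpen
      ((pullback.fst τ τ).appTop (c l) - (pullback.snd τ τ).appTop
        (δ.appTop ((pullback.fst τ τ).appTop (c l))))) → z ∈ Set.range δ) →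
      (∀ z' ∈ Set.range δ, ((pullback.fst τ τ ≫ i ≫ j) z = (pullback.fst τ τ ≫ i ≫ j) z' ∧
        pullback.snd τ τ z = pullback.snd τ τ z') → z ∈ Set.range δ) → z ∈ Set.range g := by
    intro z h1 h2
    refine hmax z h1 fun z' hz' e => h2 z' hz' ⟨?_, ?_⟩
    · have e1 := congrArg (pullback.fst p τ) e
      rw [← Scheme.Hom.comp_apply, ← Scheme.Hom.comp_apply, pullback.lift_fst,
        Category.assoc] at e1
      exact e1
    · have e1 := congrArg (pullback.snd p τ) e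
      rw [← Scheme.Hom.comp_apply, ← Scheme.Hom.comp_apply, pullback.lift_snd] at e1
      exact e1
  have ht : ∀ (C' : SChart p j d (𝟙 (Spec (CommRingCat.of k)))) (g' : C'.W ⟶ W)
      (_ : g' ≫ i = C'.i), (C'.σ ≫ g') ≫ τ = 𝟙 _ := by
    intro C' g' hg'
    have h1 : g' ≫ i ≫ j ≫ p = C'.v := by
      rw [← Category.assoc, hg', ← C'.hv, Category.comp_id]
    rw [hτ, Category.assoc, h1, C'.σv]
  refine ⟨W, τ, inferInstance, inferInstance, C, C₁.σ ≫ g₁, C₂.σ ≫ g₂, ht C₁ g₁ hg₁, ht C₂ g₂ hg₂,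
    ?_, ?_⟩
  · exact exists_hom C C₁ g₁ hg₁ hc₁ (pullback τ τ) _ _ hsq δ hδ₁ hδ₂ g hgi hgv hgσ hgc hmax'
  · exact exists_hom C C₂ g₂ hg₂ hc₂ (pullback τ τ) _ _ hsq δ hδ₁ hδ₂ g hgi hgv hgσ hgc hmax'

end

end Groth.Agent.Etdl.H297.MovePt
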